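import Cfsg.Agent.H0.MRu.D
import Cfsg.Agent.H0.TCRu3.Main
import Cfsg.Agent.H0.TCRu2.Main
import Cfsg.Agent.H0.TCRu1.Main
import Cfsg.Agent.H0.TCRu0.Main
set_option maxRecDepth 100000
set_option Elab.async false
set_option linter.unusedSectionVars false
namespace H0.MRu
open H0 BN 
theorem rels : ∀ r ∈ B, ev R.p r = 1 := all_take_done (all_take_step (all_take_step (all_take_step (all_take_step (all_take_step (all_take_step (all_take_step (all_take_step (all_take_step (all_take_step (all_take_step (all_take_step (all_take_step (all_take_step (all_take_step (all_take_step (all_take_step (all_take_step (all_take_step (all_take_step (all_take_step (all_take_step (all_take_step (all_take_zero _ B) (rels_of_relsW R c0)) (rels_of_relsW R c1)) (rels_of_relsW R c2)) (rels_of_relsW R c3)) (rels_of_relsW R c4)) (rels_of_relsW R c5)) (rels_of_relsW R c6)) (rels_of_relsW R c7)) (rels_of_relsW R c8)) (rels_of_relsW R c9)) (rels_of_relsW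 R c10)) (rels_of_relsW R c11)) (rels_of_relsW R c12)) (rels_of_relsW R c13)) (rels_of_relsW R c14)) (rels_of_relsW R c15)) (rels_of_relsW R c16)) (rels_of_relsW R c17)) (rels_of_relsW R c18)) (rels_of_relsW R c19)) (rels_of_relsW R c20)) (rels_of_relsW R c21)) (rels_of_relsW R c22)) (by decide +kernel)
theorem defs_ok : DefsOK R.p defs 12 := defsOK_of_chk c23
variable {G : Type} [Group G] (P : Pres G 12 B)
noncomputable def m : Model G := P.model defs R rels (by decide +kernel) defs_ok R_ge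
include P
theorem mR : (m P).R = R := rfl
theorem g_eq {x : ℕ} (h : x < 12) : (m P).g x = P.g x := extG_out defs P.g 12 (Or.inl h)
theorem top : gen (m P).g (lets 12) = ⊤ := (gen_extG defs P.g 12 (by decide)).trans P.top
theorem grel : ∀ r ∈ B, ev (m P).g r = 1 := rels_extG defs 12 (by decide +kernel) P.rel
theorem hi : ∀ x < 12, (m P).g x * (m P).g (inv x) = 1 := inv_of_invChk (grel P) (by decide +kernel)
theorem upper : Finite G ∧ Nat.card G ≤ 145926144000 := card_of_top (top P) ((chain_step (σ := [[0], [1], [2], [3], [4], [5], [6], [7], [8], [9], [10], [11]]) (n := 4060) H0.TCRu0.main rfl rfl (fun w hw => grel P w ((List.isSublist_iff_sublist.1 (by decide +kernel)).subset hw)) (chain_step (σ := [[3], [4], [5], [6], [7], [8], [9], [10], [11]]) (n := 2304) H0.TCRu1.main rfl rfl (fun w hw => grel P w ((List.isSublist_iff_sublist.1 (by decide +kernel)).subset hw)) (chain_step (σ := [[6], [7], [8], [9], [10], [11]])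 (n := 975) H0.TCRu2.main rfl rfl (fun w hw => grel P w ((List.isSublist_iff_sublist.1 (by decide +kernel)).subset hw)) (chain_step (σ := [[9], [10], [11]]) (n := 16) H0.TCRu3.main rfl rfl (fun w hw => grel P w ((List.isSublist_iff_sublist.1 (by decide +kernel)).subset hw)) (chain_start _))))).imp_right fun h => h.trans (by decide +kernel))
theorem fin : Finite G := (upper P).1
theorem card_base : Nat.card G = 145926144000 ∧ (m P).pst [988, 1, 1756, 0] = ⊥ :=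
  haveI := fin P
  (m P).card_done ((m P).card_step (lo := 988) (d := 16) (Model.via _ (mR P) (fun R => Model.fixW R [1, 1756, 0] [[9], [10]]) c30) ((m P).inOrb_grow [0, 1, 0, 1, 1, 0] ((m P).inOrb_self _ 988) (Model.via _ (mR P) (fun R => Model.growW R [[9], [10]] [0, 1, 0, 1, 1, 0] (Nat.pow 2 988) (ival 988 16)) c31)) (Model.via _ (mR P) (fun R => Nat.ble (988 + 16) R.N) (by decide +kernel)) ((m P).card_step (lo := 1) (d := 975) (Model.via _ (mR P) (fun R => Model.fixW R [1756, 0] [[6], [7]]) c28) ((m P).inOrb_grow [0, 1, 0, 1, 0, 1, 1, 0, 1, 0, 1, 1, 0, 1, 0, 1, 0, 1, 0, 1, 1, 0, 1, 1, 0] ((m P).inOrb_self _ 1) (Model.via _ (mR P) (fun R => Model.growW R [[6], [7]] [0, 1, 0, 1, 0, 1, 1, 0, 1, 0, 1, 1, 0, 1, 0, 1, 0, 1, 0, 1, 1, 0, 1, 1, 0] (Nat.pow 2 1) (ival 1 975)) c29)) (Model.via _ (mR P) (fun R => Nat.ble (1 + 975) R.N) (by decide +kernel)) ((m P).card_step (lo := 1756) (d := 2304) (Model.via _ (mR P) (fun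 R => Model.fixW R [0] [[3], [4]]) c26) ((m P).inOrb_grow [0, 1, 0, 1, 0, 1, 0, 1, 0, 1, 1, 0, 1, 0, 1, 1, 0, 1, 0, 1, 1, 0, 1, 0, 1, 1, 0, 1, 0, 1, 1] ((m P).inOrb_self _ 1756) (Model.via _ (mR P) (fun R => Model.growW R [[3], [4]] [0, 1, 0, 1, 0, 1, 0, 1, 0, 1, 1, 0, 1, 0, 1, 1, 0, 1, 0, 1, 1, 0, 1, 0, 1, 1, 0, 1, 0, 1, 1] (Nat.pow 2 1756) (ival 1756 2304)) c27)) (Model.via _ (mR P) (fun R => Nat.ble (1756 + 2304) R.N) (by decide +kernel)) ((m P).card_step (lo := 0) (d := 4060) (Model.via _ (mR P) (fun R => Model.fixW R [] [[0], [1]]) c24) ((m P).inOrb_grow [0, 1, 0, 1, 0, 1, 0, 1, 0, 1, 0, 1, 0, 1, 0, 1, 0, 1, 0, 1, 0, 1, 0, 1, 0, 1, 0, 1, 0, 1, 1, 0] ((m P).inOrb_self _ 0) (Model.via _ (mR P) (fun R => Model.growW R [[0], [1]] [0, 1, 0, 1, 0, 1, 0, 1, 0, 1, 0, 1, 0, 1, 0, 1, 0, 1, 0, 1, 0, 1, 0, 1, 0, 1, 0, 1, 0, 1, 1, 0] (Nat.pow 2 0) (ival 0 4060)) c25)) (Model.via _ (mR P) (fun R => Nat.ble (0 + 4060) R.N)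 (by decide +kernel)) ((m P).card_start))))) (upper P).2 (by decide +kernel)
theorem card : Nat.card G = 145926144000 := (card_base P).1
theorem base : (m P).pst [988, 1, 1756, 0] = ⊥ := (card_base P).2
theorem inj : Function.Injective (m P).φ := (m P).inj_of_base (base P)
theorem trans : (m P).orb ⊤ 0 = Set.Ico 0 (0 + 4060) :=
  (m P).orb_eq_ico' ((m P).inOrb_mono le_top ((m P).inOrb_grow [0, 1, 0, 1, 0, 1, 0, 1, 0, 1, 0, 1, 0, 1, 0, 1, 0, 1, 0, 1, 0, 1, 0, 1, 0, 1, 0, 1, 0, 1, 1, 0] ((m P).inOrb_self _ 0) (Model.via _ (mR P) (fun R => Model.growW R [[0], [1]] [0, 1, 0, 1, 0, 1, 0, 1, 0, 1, 0, 1, 0, 1, 0, 1, 0, 1, 0, 1, 0, 1, 0, 1, 0, 1, 0, 1, 0, 1, 1, 0] (Nat.pow 2 0) (ival 0 4060)) c32))) (top P).ge (Model.via _ (mR P) (fun R => Model.invW R [[0], [1], [2], [3], [4], [5], [6], [7], [8], [9], [10], [11]] 0 4060) c33) (by decide)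
theorem sub1 : (m P).InOrb (gen (m P).g [[3], [4]]) 1079 (ival 1 1755) := ((m P).inOrb_grow [0, 1, 0, 1, 0, 1, 0, 1, 0, 1, 0, 1, 0, 1, 0, 1, 0, 1, 0, 1, 0, 1, 0, 1, 0, 1, 1, 0, 1, 1, 1, 0, 1] ((m P).inOrb_self _ 1079) (Model.via _ (mR P) (fun R => Model.growW R [[3], [4]] [0, 1, 0, 1, 0, 1, 0, 1, 0, 1, 0, 1, 0, 1, 0, 1, 0, 1, 0, 1, 0, 1, 0, 1, 0, 1, 1, 0, 1, 1, 1, 0, 1] (Nat.pow 2 1079) (ival 1 1755)) c35))
theorem sub1756 : (m P).InOrb (gen (m P).g [[3], [4]]) 2087 (ival 1756 2304) := ((m P).inOrb_grow [0, 1, 0, 1, 0, 1, 0, 1, 0, 1, 1, 0, 1, 0, 1, 1, 0, 1, 0, 1, 1, 0, 1, 0, 1, 1, 0, 1, 0, 1, 1] ((m P).inOrb_self _ 2087) (Model.via _ (mR P) (fun R => Model.growW R [[3], [4]] [0, 1, 0, 1, 0, 1, 0, 1, 0, 1, 1, 0, 1, 0, 1, 1, 0, 1, 0, 1, 1, 0, 1, 0, 1, 1, 0, 1, 0, 1, 1] (Nat.pow 2 2087) (ival 1756 2304)) c38))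
theorem coatom : IsCoatom ((m P).pst [0]) := (m P).coatom (trans P) (by decide) ((m P).maxUpTo_step ((m P).maxUpTo_step ((m P).maxUpTo_one 4060) (Model.via _ (mR P) (fun R => Model.fixW R [0] [[3], [4]]) c34) (sub1 P) (Model.via _ (mR P) (fun R => Nat.ble (1 + 1755) R.N) (by decide +kernel)) (Model.via _ (mR P) (fun R => Nat.ble (0 + 4060) R.N) (by decide +kernel)) (Model.via _ (mR P) (fun R => mapsW R [1, 1] (Nat.pow 2 0) (Nat.pow 2 1079)) c36) ((m P).inOrb_grow [0, 1, 2, 0, 1, 2, 0, 2, 1, 0, 2, 1, 2, 0, 2, 1, 0, 2, 1, 2] ((m P).inOrb_self _ 0) (Model.via _ (mR P) (fun R => Model.growW R [[1, 1], [3], [4]] [0, 1, 2, 0, 1, 2, 0, 2, 1, 0, 2, 1, 2, 0, 2, 1, 0, 2, 1, 2] (Nat.pow 2 0) (ival 0 4060)) c37))) (Model.via _ (mR P) (fun R => Model.fixW R [0] [[3], [4]]) c34) (sub1756 P) (Model.via _ (mR P) (fun R => Nat.ble (1756 + 2304) R.N) (by decide +kernel)) (Model.via _ (mR P) (fun R => Nat.ble (0 + 4060) R.N) (by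 decide +kernel)) (Model.via _ (mR P) (fun R => mapsW R [0] (Nat.pow 2 0) (Nat.pow 2 2087)) c39) ((m P).inOrb_grow [0, 1, 2, 0, 1, 2, 0, 1, 2, 0, 1, 2, 0, 1, 2, 0, 2, 1, 0, 2] ((m P).inOrb_self _ 0) (Model.via _ (mR P) (fun R => Model.growW R [[0], [3], [4]] [0, 1, 2, 0, 1, 2, 0, 1, 2, 0, 1, 2, 0, 1, 2, 0, 2, 1, 0, 2] (Nat.pow 2 0) (ival 0 4060)) c40)))
theorem ng : ∀ N : Subgroup G, N.Normal → ev (m P).g [12] ∈ N → N = ⊤ :=
  ng_top (hi P) ngSt [12] (by decide) (all_take_done (all_take_step (all_take_zero _ ngR) ((m P).ev_one_of_base (base P) (Model.via _ (mR P) (fun R => Model.fixW R [988, 1, 1756, 0] ((ngR.drop 0).take 24)) c41))) (by decide +kernel)) (top P) (by decide)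
theorem card_stab : Nat.card ((m P).pst [0]) = 35942400 := (m P).card_stab (trans P) (by rw [card P]) (by decide)
theorem simple : IsSimpleGroup G :=
  haveI := fin P
  simple_of_coatom _ (coatom P) (fun N hN h => (m P).normal_le_stab (trans P) (base P) (by decide) N h)
    (ev (m P).g [12]) 29 (by rw [← ev_wpow]; exact (all_take_done (all_take_step (all_take_zero _ xR) ((m P).ev_one_of_base (base P) (Model.via _ (mR P) (fun R => Model.fixW R [988, 1, 1756, 0] ((xR.drop 0).take 1)) c42))) (by decide +kernel)) _ (List.mem_singleton_self _))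
    (by rw [card_stab P]; decide +kernel) (ng P)
end H0.MRu
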